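import Mathlib.Algebra.Category.Ring.FilteredColimits
import Mathlib.CategoryTheory.Limits.Types.Filtered
import Mathlib.CategoryTheory.Filtered.Basic
import Mathlib.Data.Set.Finite.Basic

/-!
# Elements of filtered colimits of commutative rings
-/

universe u

namespace Groth.Agent.H12.Colim

open CategoryTheory CategoryTheory.Limits

variable {I : Type u} [SmallCategory I] [IsFiltered I] {D : I ⥤ CommRingCat.{u}} {c : Cocone D}

theorem exists_rep (hc : IsColimit c) (x : c.pt) : ∃ (i : I) (y : D.obj i), c.ι.app i y = x :=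
  Types.jointly_surjective_of_isColimit (isColimitOfPreserves (forget CommRingCat.{u}) hc) x

theorem exists_eq (hc : IsColimit c) {i : I} (x y : D.obj i) (h : c.ι.app i x = c.ι.app i y) :
    ∃ (k : I) (f : i ⟶ k), D.map f x = D.map f y := by
  obtain ⟨k, f, g, hfg⟩ := (Types.FilteredColimit.isColimit_eq_iff (F := D ⋙ forget CommRingCat.{u})
    (isColimitOfPreserves (forget CommRingCat.{u}) hc) (i := i) (j := i) (xi := x) (xj := y)).1 h
  refine ⟨IsFiltered.coeq f g, f ≫ IsFiltered.coeqHom f g, ?_⟩
  have h2 := congr_arg (fun z => D.map (IsFiltered.coeqHom f g) z)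
    (show D.map f x = D.map g y from hfg)
  simp only [← CommRingCat.comp_apply, ← D.map_comp] at h2
  rwa [← IsFiltered.coeq_condition f g] at h2

/-- A finite set in the colimit comes from one stage. -/
theorem exists_rep_finite (hc : IsColimit c) {s : Set c.pt} (hs : s.Finite) :
    ∃ i : I, s ⊆ Set.range (c.ι.app i) := by
  induction s, hs using Set.Finite.induction_on with
  | empty => exact ⟨(IsFiltered.nonempty : Nonempty I).some, Set.empty_subset _⟩
  | @insert a t _ _ ih =>
    obtain ⟨i, hi⟩ := ih
    obtain ⟨j, y, hy⟩ := exists_rep hc a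
    refine ⟨IsFiltered.max i j, Set.insert_subset ⟨D.map (IsFiltered.rightToMax i j) y, ?_⟩ ?_⟩
    · rw [← CommRingCat.comp_apply, c.w]
      exact hy
    · intro x hx
      obtain ⟨z, hz⟩ := hi hx
      refine ⟨D.map (IsFiltered.leftToMax i j) z, ?_⟩
      rw [← CommRingCat.comp_apply, c.w]
      exact hz

theorem subsingleton_iff (hc : IsColimit c) :
    Subsingleton c.pt ↔ ∃ i : I, Subsingleton (D.obj i) := by
  constructor
  · intro _
    obtain ⟨i⟩ := (IsFiltered.nonempty : Nonempty I)
    obtain ⟨k, f, hk⟩ := exists_eq hc (0 : D.obj i) 1 (Subsingleton.elim (α := c.pt) _ _)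
    rw [map_zero, map_one] at hk
    exact ⟨k, subsingleton_of_zero_eq_one hk⟩
  · rintro ⟨i, _⟩
    have := congr_arg (c.ι.app i) (Subsingleton.elim (0 : D.obj i) 1)
    rw [map_zero, map_one] at this
    exact subsingleton_of_zero_eq_one (M₀ := c.pt) this

end Groth.Agent.H12.Colim
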