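import Mathlib.AlgebraicGeometry.Sites.EtalePoint
import Mathlib.AlgebraicGeometry.Morphisms.FormallyUnramified
import Mathlib

/-!
Points of the small étale site of a scheme are geometric points.
-/

set_option autoImplicit false

open CategoryTheory CategoryTheory.Limits AlgebraicGeometry Opposite TopologicalSpace IsLocalRing

universe u

namespace Groth.Agent.H12.EtPoint

noncomputable section

variable {S : Scheme.{u}}

/-- A scheme étale over an object of the small étale site. -/
def mkE (X : S.Etale) {Y : Scheme.{u}} (f : Y ⟶ X.left) [Etale f] : S.Etale :=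
  haveI : Etale X.hom := X.prop
  Scheme.Etale.mk (f ≫ X.hom)

/-- The structure map of `mkE`. -/
def proj (X : S.Etale) {Y : Scheme.{u}} (f : Y ⟶ X.left) [Etale f] : mkE X f ⟶ X :=
  MorphismProperty.Over.homMk f rfl trivial

@[simp]
theorem proj_left (X : S.Etale) {Y : Scheme.{u}} (f : Y ⟶ X.left) [Etale f] : (proj X f).left = f := rfl

theorem hom_ext {X Y : S.Etale} {f g : X ⟶ Y} (h : f.left = g.left) : f = g :=
  MorphismProperty.Over.Hom.ext h

theorem finite_residueFieldMap {X Y : Scheme.{u}} (f : X ⟶ Y) [Etale f] (x : X) :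
    (f.residueFieldMap x).hom.Finite := by
  let : Algebra (Y.presheaf.stalk (f x)) (X.presheaf.stalk x) := (f.stalkMap x).hom.toAlgebra
  have : IsLocalHom (algebraMap (Y.presheaf.stalk (f x)) (X.presheaf.stalk x)) :=
    inferInstanceAs <| IsLocalHom (f.stalkMap x).hom
  have : Algebra.EssFiniteType (Y.presheaf.stalk (f x)) (X.presheaf.stalk x) :=
    LocallyOfFiniteType.stalkMap f x
  have : Algebra.FormallyUnramified (Y.presheaf.stalk (f x)) (X.presheaf.stalk x) :=
    FormallyUnramified.stalkMap f x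
  have h : Module.Finite (ResidueField (Y.presheaf.stalk (f x))) (ResidueField (X.presheaf.stalk x)) :=
    inferInstance
  change (ResidueField.map (algebraMap (Y.presheaf.stalk (f x)) (X.presheaf.stalk x))).Finite
  exact RingHom.finite_algebraMap.mpr h

/-- A morphism from the spectrum of a field is given by a point and a map of residue fields. -/
theorem exists_fac {K : Type u} [Field K] {X : Scheme.{u}} (h : Spec (CommRingCat.of K) ⟶ X) (x : X)
    (hx : h (closedPoint K) = x) :
    ∃ a : X.residueField x ⟶ CommRingCat.of K, Spec.map a ≫ X.fromSpecResidueField x = h := by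
  subst hx
  exact ⟨_, Scheme.descResidueField_stalkClosedPointTo_fromSpecResidueField K X h⟩

/-- Two morphisms of residue fields inducing the same morphism are equal. -/
theorem residue_ext {R : CommRingCat.{u}} {X : Scheme.{u}} {x : X} {a b : X.residueField x ⟶ R}
    (h : Spec.map a ≫ X.fromSpecResidueField x = Spec.map b ≫ X.fromSpecResidueField x) : a = b :=
  Spec.map_injective ((cancel_mono _).1 h)

theorem locallyQuasiFinite_of_etale {A B : Scheme.{u}} (f : A ⟶ B) [Etale f] : LocallyQuasiFinite f := by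
  rw [HasRingHomProperty.iff_appLE (P := @LocallyQuasiFinite)]
  intro U V e
  have := HasRingHomProperty.appLE (P := @Etale) f ‹_› U V e
  algebraize [(Scheme.Hom.appLE f U.1 V.1 e).hom]
  exact inferInstanceAs (Algebra.QuasiFinite _ _)

variable (p : GrothendieckTopology.Point.{u} S.smallEtaleTopology)

theorem cover_lift {ι : Type u} {X : S.Etale} (Z : ι → S.Etale) (f : ∀ i, Z i ⟶ X)
    (hf : ⋃ i, Set.range (f i).left = Set.univ) (e : p.fiber.obj X) :
    ∃ i z, p.fiber.map (f i) z = e := by
  obtain ⟨Y, g, hg, y, rfl⟩ :=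
    p.jointly_surjective (Sieve.ofArrows _ f) ((Scheme.ofArrows_mem_smallEtaleTopology_iff f).2 hf) e
  obtain ⟨i, a, rfl⟩ := (Sieve.mem_ofArrows_iff _ _ _).1 hg
  exact ⟨i, p.fiber.map a y, by rw [← Functor.map_comp_apply]⟩

theorem exists_dominate₂ {X Y : S.Etale} (e : p.fiber.obj X) (e' : p.fiber.obj Y) :
    ∃ (Z : S.Etale) (z : p.fiber.obj Z) (g : Z ⟶ X) (g' : Z ⟶ Y), p.fiber.map g z = e ∧ p.fiber.map g' z = e' := by
  obtain ⟨⟨Z, z⟩, g, g', -⟩ := IsCofilteredOrEmpty.cone_objs (p.fiber.elementsMk X e) (p.fiber.elementsMk Y e')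
  exact ⟨Z, z, g.1, g'.1, g.2, g'.2⟩

theorem exists_square {X Y T : S.Etale} (f : X ⟶ T) (f' : Y ⟶ T) (e : p.fiber.obj X) (e' : p.fiber.obj Y)
    (h : p.fiber.map f e = p.fiber.map f' e') :
    ∃ (Z : S.Etale) (z : p.fiber.obj Z) (g : Z ⟶ X) (g' : Z ⟶ Y),
      p.fiber.map g z = e ∧ p.fiber.map g' z = e' ∧ g ≫ f = g' ≫ f' := by
  obtain ⟨⟨Z, z⟩, g, g', hc⟩ := IsCofiltered.cospan
    (j := p.fiber.elementsMk X e) (j' := p.fiber.elementsMk Y e') (i := p.fiber.elementsMk T (p.fiber.map f e))
    (CategoryOfElements.homMk _ _ f rfl) (CategoryOfElements.homMk _ _ f' h.symm)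
  exact ⟨Z, z, g.1, g'.1, g.2, g'.2, congrArg Subtype.val hc⟩

/-- The element `e` comes from the open `U`. -/
def InU {X : S.Etale} (U : X.left.Opens) (e : p.fiber.obj X) : Prop :=
  ∃ z, p.fiber.map (proj X U.ι) z = e

theorem inU_of_map {X Z : S.Etale} (g : Z ⟶ X) (z : p.fiber.obj Z) (U : X.left.Opens)
    (h : Set.range g.left ⊆ (U : Set X.left)) : InU p U (p.fiber.map g z) := by
  let l : Z.left ⟶ (U : Scheme.{u}) := IsOpenImmersion.lift U.ι g.left (by simpa using h)
  let l' : Z ⟶ mkE X U.ι := MorphismProperty.Over.homMk l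
    (by
      change l ≫ U.ι ≫ X.hom = Z.hom
      rw [IsOpenImmersion.lift_fac_assoc]
      exact MorphismProperty.Over.w g) trivial
  refine ⟨p.fiber.map l' z, ?_⟩
  rw [← Functor.map_comp_apply]
  have : l' ≫ proj X U.ι = g := hom_ext (IsOpenImmersion.lift_fac U.ι g.left _)
  rw [this]

theorem inU_mono {X : S.Etale} {U V : X.left.Opens} (h : U ≤ V) {e : p.fiber.obj X} (he : InU p U e) :
    InU p V e := by
  obtain ⟨z, rfl⟩ := he
  exact inU_of_map p _ z V (by
    rintro _ ⟨t, rfl⟩
    exact h t.2)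

theorem inU_top {X : S.Etale} (e : p.fiber.obj X) : InU p (⊤ : X.left.Opens) e := by
  simpa using inU_of_map p (𝟙 X) e ⊤ (by simp)

theorem inU_inf {X : S.Etale} {U V : X.left.Opens} {e : p.fiber.obj X} (hU : InU p U e) (hV : InU p V e) :
    InU p (U ⊓ V) e := by
  obtain ⟨u, hu⟩ := hU
  obtain ⟨v, hv⟩ := hV
  obtain ⟨Z, z, g, g', hg, hg', hc⟩ := exists_square p (proj X U.ι) (proj X V.ι) u v (hu.trans hv.symm)
  rw [← hu, ← hg, ← Functor.map_comp_apply]
  refine inU_of_map p _ z _ ?_
  rintro _ ⟨t, rfl⟩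
  refine ⟨?_, ?_⟩
  · exact (g.left t).2
  · rw [hc]
    exact (g'.left t).2

theorem inU_map_iff {X Y : S.Etale} (f : X ⟶ Y) (e : p.fiber.obj X) (V : Y.left.Opens) :
    InU p V (p.fiber.map f e) ↔ InU p (f.left ⁻¹ᵁ V) e := by
  refine ⟨?_, ?_⟩
  · rintro ⟨v, hv⟩
    obtain ⟨Z, z, g, g', hg, -, hc⟩ := exists_square p f (proj Y V.ι) e v hv.symm
    rw [← hg]
    refine inU_of_map p g z _ ?_
    rintro _ ⟨t, rfl⟩
    change f.left (g.left t) ∈ V
    have : f.left (g.left t) = V.ι (g'.left t) := congr($(congrArg (fun q : Z ⟶ Y => q.left) hc) t)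
    rw [this]
    exact (g'.left t).2
  · rintro ⟨z, rfl⟩
    rw [← Functor.map_comp_apply]
    refine inU_of_map p _ z _ ?_
    rintro _ ⟨t, rfl⟩
    exact t.2

theorem exists_point {X : S.Etale} (e : p.fiber.obj X) :
    ∃ x : X.left, ∀ U : X.left.Opens, InU p U e ↔ x ∈ U := by
  let C : X.left.Opens := ⨆ U : {U : X.left.Opens // ¬ InU p U e}, U.1
  have hC : ¬ InU p C e := by
    rintro ⟨c, hc⟩
    let j (U : {U : X.left.Opens // ¬ InU p U e}) : (U.1 : Scheme.{u}) ⟶ (mkE X C.ι).left :=
      X.left.homOfLE (le_iSup Subtype.val U : U.1 ≤ C)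
    have hj : ∀ U, Etale (j U) := fun U =>
      (inferInstance : Etale (X.left.homOfLE (le_iSup Subtype.val U : U.1 ≤ C)))
    let Zf : {U : X.left.Opens // ¬ InU p U e} → S.Etale := fun U => mkE (mkE X C.ι) (j U)
    obtain ⟨i, z, hz⟩ := cover_lift p (X := mkE X C.ι) Zf (fun U => proj (mkE X C.ι) (j U))
      (by
        refine Set.eq_univ_of_forall fun t => ?_
        obtain ⟨i, hi⟩ := Opens.mem_iSup.1 t.2
        exact Set.mem_iUnion.2 ⟨i, ⟨t.1, hi⟩, Subtype.ext (X.left.homOfLE_apply (U := i.1) (V := C) (e := le_iSup Subtype.val i) ⟨t.1, hi⟩)⟩) c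
    refine i.2 (Eq.subst (motive := fun q => InU p i.1 q) ((congrArg _ hz).trans hc) ?_)
    rw [← Functor.map_comp_apply]
    refine inU_of_map p _ z _ ?_
    rintro _ ⟨t, rfl⟩
    have h2 : ((X.left.homOfLE (le_iSup Subtype.val i : i.1 ≤ C)) t).1 ∈ i.1 :=
      (Scheme.homOfLE_apply (X := X.left) (le_iSup Subtype.val i : i.1 ≤ C) t).symm.subst
        (motive := fun q => q ∈ i.1) t.2
    exact h2
  have hiff : ∀ U : X.left.Opens, InU p U e ↔ ¬ U ≤ C :=
    fun U => ⟨fun h hle => hC (inU_mono p hle h), fun h => by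
      by_contra hn
      exact h (le_iSup (fun V : {U : X.left.Opens // ¬ InU p U e} => V.1) ⟨U, hn⟩)⟩
  have hne : ((C : Set X.left)ᶜ).Nonempty := by
    rw [Set.nonempty_compl]
    intro h
    exact (hiff ⊤).1 (inU_top p e) (fun x _ => h.ge (Set.mem_univ x))
  have hirr : IsIrreducible ((C : Set X.left)ᶜ) := by
    refine ⟨hne, ?_⟩
    rintro A B hA hB ⟨a, haC, haA⟩ ⟨b, hbC, hbB⟩
    have h1 : InU p ⟨A, hA⟩ e := (hiff _).2 fun h => haC (h haA)
    have h2 : InU p ⟨B, hB⟩ e := (hiff _).2 fun h => hbC (h hbB)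
    obtain ⟨t, ht, htC⟩ := SetLike.not_le_iff_exists.1 ((hiff _).1 (inU_inf p h1 h2))
    exact ⟨t, htC, ht⟩
  obtain ⟨x, hx⟩ := QuasiSober.sober hirr C.isOpen.isClosed_compl
  refine ⟨x, fun U => (hiff U).trans ?_⟩
  rw [SetLike.not_le_iff_exists]
  refine ⟨?_, fun h => ⟨x, h, hx.mem⟩⟩
  rintro ⟨t, ht, htC⟩
  have hst : x ⤳ t := hx.specializes htC
  exact hst.mem_open U.isOpen ht

/-- The point of an element of the fibre. -/
def pt {X : S.Etale} (e : p.fiber.obj X) : X.left := (exists_point p e).choose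

theorem inU_iff {X : S.Etale} (e : p.fiber.obj X) (U : X.left.Opens) : InU p U e ↔ pt p e ∈ U :=
  (exists_point p e).choose_spec U

theorem pt_map {X Y : S.Etale} (f : X ⟶ Y) (e : p.fiber.obj X) : f.left (pt p e) = pt p (p.fiber.map f e) := by
  refine (Inseparable.eq ?_)
  refine inseparable_iff_forall_isOpen.2 fun V hV => ?_
  exact (inU_iff p e (f.left ⁻¹ᵁ ⟨V, hV⟩)).symm.trans
    ((inU_map_iff p f e ⟨V, hV⟩).symm.trans (inU_iff p _ _))

attribute [local irreducible] pt

theorem existsUnique_resMap {a b : p.fiber.Elements} (φ : a ⟶ b) :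
    ∃ m : b.1.left.residueField (pt p b.2) ⟶ a.1.left.residueField (pt p a.2),
      Spec.map m ≫ b.1.left.fromSpecResidueField (pt p b.2) =
        a.1.left.fromSpecResidueField (pt p a.2) ≫ φ.1.left := by
  have h : pt p b.2 = φ.1.left (pt p a.2) := by rw [pt_map p φ.1 a.2, φ.2]
  refine ⟨(b.1.left.residueFieldCongr h).hom ≫ φ.1.left.residueFieldMap (pt p a.2), ?_⟩
  rw [Spec.map_comp, Category.assoc, Scheme.residueFieldCongr_fromSpecResidueField,
    Scheme.Hom.SpecMap_residueFieldMap_fromSpecResidueField]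

/-- The map of residue fields of a map of elements. -/
def resMap {a b : p.fiber.Elements} (φ : a ⟶ b) :
    b.1.left.residueField (pt p b.2) ⟶ a.1.left.residueField (pt p a.2) :=
  (existsUnique_resMap p φ).choose

theorem resMap_spec {a b : p.fiber.Elements} (φ : a ⟶ b) :
    Spec.map (resMap p φ) ≫ b.1.left.fromSpecResidueField (pt p b.2) =
      a.1.left.fromSpecResidueField (pt p a.2) ≫ φ.1.left :=
  (existsUnique_resMap p φ).choose_spec

/-- The residue fields of the elements of the fibre. -/
def resFunctor : p.fiber.Elementsᵒᵖ ⥤ CommRingCat.{u} where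
  obj a := a.unop.1.left.residueField (pt p a.unop.2)
  map φ := resMap p φ.unop
  map_id a := by
    refine residue_ext ?_
    rw [resMap_spec, Spec.map_id, Category.id_comp]
    exact Category.comp_id _
  map_comp {a b c} φ ψ := by
    refine residue_ext ?_
    rw [resMap_spec, Spec.map_comp, Category.assoc,
      resMap_spec, reassoc_of% (resMap_spec p ψ.unop)]
    rfl

theorem resFunctor_spec {a b : p.fiber.Elements} (φ : a ⟶ b) :
    Spec.map ((resFunctor p).map φ.op) ≫ b.1.left.fromSpecResidueField (pt p b.2) =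
      a.1.left.fromSpecResidueField (pt p a.2) ≫ φ.1.left :=
  resMap_spec p φ

/-- The residue field of the point. -/
def geomField : CommRingCat.{u} := colimit (resFunctor p)

/-- The map of a stage to the residue field of the point. -/
def stage {X : S.Etale} (e : p.fiber.obj X) : X.left.residueField (pt p e) ⟶ geomField p :=
  colimit.ι (resFunctor p) (op (⟨X, e⟩ : p.fiber.Elements))

theorem stage_surj (l : geomField p) :
    ∃ (X : S.Etale) (e : p.fiber.obj X) (v : X.left.residueField (pt p e)), stage p e v = l := by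
  obtain ⟨⟨X, e⟩, v, rfl⟩ := Types.jointly_surjective_of_isColimit
    (isColimitOfPreserves (forget CommRingCat) (colimit.isColimit (resFunctor p))) l
  exact ⟨X, e, v, rfl⟩

theorem stage_map_aux {a b : p.fiber.Elements} (φ : a ⟶ b) :
    ∃ m : b.1.left.residueField (pt p b.2) ⟶ a.1.left.residueField (pt p a.2),
      m ≫ colimit.ι (resFunctor p) (op a) = colimit.ι (resFunctor p) (op b) ∧
      Spec.map m ≫ b.1.left.fromSpecResidueField (pt p b.2) =
        a.1.left.fromSpecResidueField (pt p a.2) ≫ φ.1.left :=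
  ⟨(resFunctor p).map φ.op, colimit.w (resFunctor p) φ.op, resFunctor_spec p φ⟩

theorem stage_map {X Y : S.Etale} {e : p.fiber.obj X} {e' : p.fiber.obj Y} (g : X ⟶ Y) (hg : p.fiber.map g e = e') :
    ∃ m : Y.left.residueField (pt p e') ⟶ X.left.residueField (pt p e),
      m ≫ stage p e = stage p e' ∧
      Spec.map m ≫ Y.left.fromSpecResidueField (pt p e') = X.left.fromSpecResidueField (pt p e) ≫ g.left :=
  stage_map_aux p (a := ⟨X, e⟩) (b := ⟨Y, e'⟩) (CategoryOfElements.homMk _ _ g hg)

theorem stage_nontrivial : Nontrivial (geomField p) := by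
  refine ⟨⟨0, 1, fun h => ?_⟩⟩
  obtain ⟨a⟩ := (IsCofiltered.nonempty : Nonempty p.fiber.Elements)
  let i := colimit.ι (resFunctor p) (op a)
  have h' : i.hom (0 : a.1.left.residueField (pt p a.2)) = i.hom (1 : a.1.left.residueField (pt p a.2)) :=
    (RingHom.map_zero i.hom).trans (h.trans (RingHom.map_one i.hom).symm)
  obtain ⟨b, φ, hφ⟩ := ((colimit.isColimit (resFunctor p)).eq_iff' (x := 0) (y := 1)).1 h'
  have := (RingHom.map_zero ((resFunctor p).map φ).hom).symm.trans (hφ.trans (RingHom.map_one _))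
  exact zero_ne_one (α := b.unop.1.left.residueField (pt p b.unop.2)) this

theorem isField : IsField (geomField p) where
  exists_pair_ne := (stage_nontrivial p).exists_pair_ne
  mul_comm := mul_comm
  mul_inv_cancel {l} hl := by
    obtain ⟨X, e, v, rfl⟩ := stage_surj p l
    have hv : v ≠ 0 := fun h => hl (by rw [h]; exact RingHom.map_zero (stage p e).hom)
    exact ⟨(stage p e).hom v⁻¹, ((stage p e).hom.map_mul _ _).symm.trans
      ((congrArg _ (mul_inv_cancel₀ hv)).trans (stage p e).hom.map_one)⟩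

/-- The residue field of the point, as a type. -/
def Fld : Type u := geomField p

instance : Field (Fld p) :=
  haveI : Field (geomField p) := (isField p).toField
  inferInstanceAs (Field (geomField p))

/-- The map of a stage, into the field. -/
def stageF {X : S.Etale} (e : p.fiber.obj X) : X.left.residueField (pt p e) ⟶ CommRingCat.of (Fld p) := stage p e

theorem stageF_injective {X : S.Etale} (e : p.fiber.obj X) : Function.Injective (stageF p e) :=
  RingHom.injective (stageF p e).hom

/-- The geometric point attached to an element of the fibre. -/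
def geomPt {X : S.Etale} (e : p.fiber.obj X) : Spec (CommRingCat.of (Fld p)) ⟶ X.left :=
  Spec.map (stageF p e) ≫ X.left.fromSpecResidueField (pt p e)

theorem geomPt_apply {X : S.Etale} (e : p.fiber.obj X) (s : Spec (CommRingCat.of (Fld p))) :
    geomPt p e s = pt p e := by
  simp [geomPt, Scheme.fromSpecResidueField_apply]

theorem geomPt_map {X Y : S.Etale} (g : X ⟶ Y) (e : p.fiber.obj X) :
    geomPt p e ≫ g.left = geomPt p (p.fiber.map g e) := by
  obtain ⟨m, hm1, hm2⟩ := stage_map p (e := e) g rfl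
  have h1 : m ≫ stageF p e = stageF p (p.fiber.map g e) := hm1
  rw [geomPt, geomPt, Category.assoc, ← hm2, ← h1, Spec.map_comp, Category.assoc]

theorem geomPt_hom_eq {X Y : S.Etale} (e : p.fiber.obj X) (e' : p.fiber.obj Y) :
    geomPt p e ≫ X.hom = geomPt p e' ≫ Y.hom := by
  obtain ⟨Z, z, g, g', hg, hg'⟩ := exists_dominate₂ p e e'
  rw [← hg, ← hg', ← geomPt_map, ← geomPt_map, Category.assoc, Category.assoc,
    show g.left ≫ X.hom = Z.hom from MorphismProperty.Over.w g,
    show g'.left ≫ Y.hom = Z.hom from MorphismProperty.Over.w g']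

/-- The geometric point of `S`. -/
def base : Spec (CommRingCat.of (Fld p)) ⟶ S :=
  geomPt p ((IsCofiltered.nonempty : Nonempty p.fiber.Elements).some.2) ≫
    (IsCofiltered.nonempty : Nonempty p.fiber.Elements).some.1.hom

theorem geomPt_hom {X : S.Etale} (e : p.fiber.obj X) : geomPt p e ≫ X.hom = base p :=
  geomPt_hom_eq p _ _

/-- The comparison map of fibre functors. -/
def toGeom (X : S.Etale) (e : p.fiber.obj X) : Over.mk (base p) ⟶ (Scheme.Etale.forget S).obj X :=
  Over.homMk (geomPt p e) (geomPt_hom p e)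

theorem toGeom_injective (X : S.Etale) : Function.Injective (toGeom p X) := by
  intro e e' h
  have h' : geomPt p e = geomPt p e' := congrArg CommaMorphism.left h
  obtain ⟨Z, z, g, g', hg, hg'⟩ := exists_dominate₂ p e e'
  have hz : geomPt p z ≫ g.left = geomPt p z ≫ g'.left := by rw [geomPt_map, geomPt_map, hg, hg', h']
  have : Etale X.hom := X.prop
  let l := pullback.lift (f := X.hom) (g := X.hom) g.left g'.left
    ((MorphismProperty.Over.w g).trans (MorphismProperty.Over.w g').symm)
  let i := pullback.fst l (pullback.diagonal X.hom)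
  have e1 : i ≫ g.left = i ≫ g'.left := by
    have h1 : i ≫ g.left = pullback.snd l (pullback.diagonal X.hom) := by
      simpa [l, i, pullback.lift_fst] using
        congrArg (fun q => q ≫ pullback.fst X.hom X.hom) (pullback.condition (f := l) (g := pullback.diagonal X.hom))
    have h2 : i ≫ g'.left = pullback.snd l (pullback.diagonal X.hom) := by
      simpa [l, i, pullback.lift_snd] using
        congrArg (fun q => q ≫ pullback.snd X.hom X.hom) (pullback.condition (f := l) (g := pullback.diagonal X.hom))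
    rw [h1, h2]
  have hU : InU p i.opensRange z := by
    refine (inU_iff p z _).2 ?_
    let ζ := pullback.lift (f := l) (g := pullback.diagonal X.hom) (geomPt p z) (geomPt p z ≫ g.left) (by
      apply pullback.hom_ext
      · simp only [l, Category.assoc, pullback.diagonal_fst]
        exact (congrArg (geomPt p z ≫ ·) (pullback.lift_fst _ _ _)).trans
          ((Category.comp_id _).symm.trans (Category.assoc _ _ _))
      · simp only [l, Category.assoc, pullback.diagonal_snd]
        exact ((congrArg (geomPt p z ≫ ·) (pullback.lift_snd _ _ _)).trans hz.symm).trans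
          ((Category.comp_id _).symm.trans (Category.assoc _ _ _)))
    rw [← geomPt_apply p z default, show geomPt p z = ζ ≫ i from (pullback.lift_fst _ _ _).symm]
    exact ⟨ζ default, (Scheme.Hom.comp_apply ζ i default).symm⟩
  obtain ⟨u, hu⟩ := hU
  let l' : (i.opensRange : Scheme.{u}) ⟶ pullback l (pullback.diagonal X.hom) :=
    IsOpenImmersion.lift i i.opensRange.ι (by simp [Scheme.Hom.coe_opensRange])
  have e2 : proj Z i.opensRange.ι ≫ g = proj Z i.opensRange.ι ≫ g' := by
    refine hom_ext ?_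
    change i.opensRange.ι ≫ g.left = i.opensRange.ι ≫ g'.left
    rw [← show l' ≫ i = i.opensRange.ι from IsOpenImmersion.lift_fac _ _ _, Category.assoc, Category.assoc, e1]
  rw [← hg, ← hg', ← hu, ← Functor.map_comp_apply, ← Functor.map_comp_apply, e2]

theorem exists_lift_of_mem_range (Z : S.Etale) (z : p.fiber.obj Z) {O : Scheme.{u}} (j : O ⟶ Z.left) [Etale j]
    (h : pt p z ∈ Set.range j) : ∃ b : p.fiber.obj (mkE Z j), p.fiber.map (proj Z j) b = z := by
  let V : Z.left.Opens := ⟨Set.range j, j.isOpenMap.isOpen_range⟩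
  obtain ⟨u, hu⟩ : InU p V z := (inU_iff p z V).2 h
  let jV : O ⟶ (V : Scheme.{u}) :=
    IsOpenImmersion.lift V.ι j (by rw [Scheme.Opens.range_ι]; rfl)
  have hjV : jV ≫ V.ι = j := IsOpenImmersion.lift_fac _ _ _
  let f : mkE Z j ⟶ mkE Z V.ι := MorphismProperty.Over.homMk jV (by
    change jV ≫ V.ι ≫ Z.hom = j ≫ Z.hom
    rw [← hjV, Category.assoc]) trivial
  obtain ⟨-, b, hb⟩ := cover_lift p (ι := PUnit.{u + 1}) (fun _ => mkE Z j) (fun _ => f) (by
      refine Set.eq_univ_of_forall fun v => ?_
      obtain ⟨o, ho⟩ := v.2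
      refine Set.mem_iUnion.2 ⟨PUnit.unit, o, Subtype.ext ?_⟩
      exact ((Scheme.Hom.comp_apply jV V.ι o).symm.trans congr($hjV o)).trans ho) u
  refine ⟨b, ?_⟩
  rw [← hu, ← hb, ← Functor.map_comp_apply]
  have : f ≫ proj Z V.ι = proj Z j := hom_ext hjV
  rw [this]

theorem toGeom_surjective (X : S.Etale) : Function.Surjective (toGeom p X) := by
  intro q
  let t : Spec (CommRingCat.of (Fld p)) ⟶ X.left := q.left
  obtain ⟨xh, hxh⟩ : ∃ f : X.left ⟶ S, f = X.hom := ⟨_, rfl⟩
  have : Etale xh := hxh ▸ X.prop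
  have ht : t ≫ xh = base p := hxh ▸ Over.w q
  obtain ⟨x, hx⟩ : ∃ x, t (closedPoint (Fld p)) = x := ⟨_, rfl⟩
  obtain ⟨a, ha⟩ := exists_fac t x hx
  letI alg : Algebra (S.residueField (xh x)) (X.left.residueField x) := (xh.residueFieldMap x).hom.toAlgebra
  obtain ⟨gs, hgs⟩ : ∃ gs : Finset (X.left.residueField x),
      Submodule.span (S.residueField (xh x)) (gs : Set (X.left.residueField x)) = ⊤ :=
    (finite_residueFieldMap xh x).fg_top
  -- a stage containing the images of the generators
  obtain ⟨Z, z, hZ⟩ : ∃ (Z : S.Etale) (z : p.fiber.obj Z), ∀ v ∈ gs, a.hom v ∈ (stageF p z).hom.range := by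
    classical
    clear hgs
    induction gs using Finset.induction with
    | empty => exact ⟨_, (IsCofiltered.nonempty : Nonempty p.fiber.Elements).some.2, by simp⟩
    | @insert v gs _ ih =>
      obtain ⟨Z, z, hZ⟩ : ∃ (Z : S.Etale) (z : p.fiber.obj Z), ∀ v ∈ gs, a.hom v ∈ (stageF p z).hom.range := ih
      obtain ⟨Y, y, c, hc⟩ := stage_surj p (a.hom v)
      obtain ⟨W, w, g, g', hg, hg'⟩ := exists_dominate₂ p y z
      refine ⟨W, w, fun v' hv' => ?_⟩
      rcases Finset.mem_insert.1 hv' with rfl | hv'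
      · obtain ⟨m, hm, -⟩ := stage_map p (e := w) g hg
        exact ⟨m.hom c, (congr($(hm).hom c)).trans hc⟩
      · obtain ⟨m, hm, -⟩ := stage_map p (e := w) g' hg'
        obtain ⟨d, hd⟩ := hZ v' hv'
        exact ⟨m.hom d, (congr($(hm).hom d)).trans hd⟩
  -- compatibility over `S`
  obtain ⟨zh, hzh⟩ : ∃ f : Z.left ⟶ S, f = Z.hom := ⟨_, rfl⟩
  have : Etale zh := hzh ▸ Z.prop
  have hz0 : geomPt p z ≫ zh = base p := hzh ▸ geomPt_hom p z
  have hpt : xh x = zh (pt p z) := by
    have h1 := congr($(hz0.trans ht.symm) (closedPoint (Fld p)))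
    exact (((congrArg zh (geomPt_apply p z _)).symm.trans ((Scheme.Hom.comp_apply _ zh _).symm.trans h1)).trans
      ((Scheme.Hom.comp_apply t xh _).trans (congrArg xh hx))).symm
  let res : S.residueField (xh x) ⟶ Z.left.residueField (pt p z) :=
    (S.residueFieldCongr hpt).hom ≫ zh.residueFieldMap (pt p z)
  have hres : Spec.map res ≫ S.fromSpecResidueField (xh x) =
      Z.left.fromSpecResidueField (pt p z) ≫ zh := by
    simp [res]
  have hab : xh.residueFieldMap x ≫ a = res ≫ stageF p z := by
    refine residue_ext ?_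
    rw [Spec.map_comp, Spec.map_comp, Category.assoc, Category.assoc,
      Scheme.Hom.SpecMap_residueFieldMap_fromSpecResidueField, ← Category.assoc, ha, ht, hres, ← Category.assoc]
    exact hz0.symm
  have hrange : ∀ v, a.hom v ∈ (stageF p z).hom.range := by
    intro v
    have hv : v ∈ Submodule.span (S.residueField (xh x)) (gs : Set (X.left.residueField x)) := by
      rw [hgs]; trivial
    induction hv using Submodule.span_induction with
    | mem v hv => exact hZ v hv
    | zero => rw [map_zero]; exact zero_mem _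
    | add v w _ _ hv hw => rw [map_add]; exact add_mem hv hw
    | smul c v _ hv =>
      rw [Algebra.smul_def, map_mul]
      exact mul_mem ⟨res.hom c, (congr($(hab).hom c)).symm⟩ hv
  let er : Z.left.residueField (pt p z) ≃+* (stageF p z).hom.range :=
    RingEquiv.ofBijective (stageF p z).hom.rangeRestrict
      ⟨fun u v h => stageF_injective p z (congrArg Subtype.val h), (stageF p z).hom.rangeRestrict_surjective⟩
  let a' : X.left.residueField x ⟶ Z.left.residueField (pt p z) :=
    CommRingCat.ofHom (er.symm.toRingHom.comp (a.hom.codRestrict _ hrange))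
  have ha' : a' ≫ stageF p z = a := by
    ext v
    exact congrArg Subtype.val (er.apply_symm_apply (a.hom.codRestrict _ hrange v))
  -- the point of the product
  let t' : Spec (Z.left.residueField (pt p z)) ⟶ X.left := Spec.map a' ≫ X.left.fromSpecResidueField x
  have hmapt : Spec.map (stageF p z) ≫ t' = t := by rw [← Category.assoc, ← Spec.map_comp, ha', ha]
  have ht' : Z.left.fromSpecResidueField (pt p z) ≫ zh = t' ≫ xh := by
    have : res = xh.residueFieldMap x ≫ a' := by
      ext c
      refine stageF_injective p z ?_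
      exact (congr($(hab).hom c)).symm.trans (congr($(ha').hom ((xh.residueFieldMap x).hom c))).symm
    rw [← hres, this, Spec.map_comp, Category.assoc,
      Scheme.Hom.SpecMap_residueFieldMap_fromSpecResidueField, Category.assoc]
  let W := pullback zh xh
  let k : Spec (Z.left.residueField (pt p z)) ⟶ W := pullback.lift _ t' ht'
  let w : W := k (closedPoint _)
  let pr : W ⟶ Z.left := pullback.fst zh xh
  have hw : pr w = pt p z := by
    change pr (k (closedPoint _)) = _
    exact ((Scheme.Hom.comp_apply k pr _).symm.trans congr($(pullback.lift_fst _ _ ht') _)).trans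
      (Scheme.fromSpecResidueField_apply _ _)
  -- isolate the point in its fibre
  obtain ⟨O, hO, hO'⟩ : ∃ O : W.Opens, w ∈ O ∧ ∀ w' ∈ O, pr w' = pt p z → w' = w := by
    have : Etale pr := inferInstanceAs (Etale (pullback.fst zh xh))
    have : LocallyQuasiFinite pr := locallyQuasiFinite_of_etale pr
    have hd : DiscreteTopology (pr ⁻¹' {pt p z}) := (pr.isDiscrete_preimage_singleton (pt p z)).to_subtype
    obtain ⟨O, hO, hO'⟩ := isOpen_induced_iff.1 (isOpen_discrete ({⟨w, hw⟩} : Set (pr ⁻¹' {pt p z})))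
    refine ⟨⟨O, hO⟩, (Set.ext_iff.1 hO' ⟨w, hw⟩).2 rfl, fun w' hw' h => ?_⟩
    exact congrArg Subtype.val ((Set.ext_iff.1 hO' ⟨w', h⟩).1 hw')
  let j : (O : Scheme.{u}) ⟶ Z.left := O.ι ≫ pr
  have hj : Etale j := by
    have : Etale pr := inferInstanceAs (Etale (pullback.fst zh xh))
    exact inferInstanceAs (Etale (O.ι ≫ pr))
  obtain ⟨b, hb'⟩ := exists_lift_of_mem_range p Z z j ⟨⟨w, hO⟩, hw⟩
  have hπ₁l : (proj Z j).left = O.ι ≫ pr := rfl
  let π₂ : mkE Z j ⟶ X := MorphismProperty.Over.homMk (O.ι ≫ pullback.snd zh xh) (by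
    change (O.ι ≫ pullback.snd zh xh) ≫ X.hom = (O.ι ≫ pr) ≫ Z.hom
    rw [← hxh, ← hzh, Category.assoc, Category.assoc, ← pullback.condition]) trivial
  refine ⟨p.fiber.map π₂ b, Over.OverMorphism.ext ?_⟩
  change geomPt p (p.fiber.map π₂ b) = t
  rw [← geomPt_map]
  let gb : Spec (CommRingCat.of (Fld p)) ⟶ (O : Scheme.{u}) := geomPt p b
  suffices h : gb ≫ O.ι = Spec.map (stageF p z) ≫ k by
    change gb ≫ O.ι ≫ pullback.snd zh xh = t
    rw [reassoc_of% h, show k ≫ pullback.snd zh xh = t' from pullback.lift_snd _ _ _, hmapt]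
  have hfst : (gb ≫ O.ι) ≫ pr = geomPt p z := by
    rw [Category.assoc]
    exact (geomPt_map p (proj Z j) b).trans (by rw [hb'])
  have hwb : (gb ≫ O.ι) (closedPoint (Fld p)) = w := by
    refine hO' _ ?_ ?_
    · exact (Scheme.Hom.comp_apply gb O.ι (closedPoint (Fld p))).symm ▸ (gb (closedPoint (Fld p))).2
    · exact ((Scheme.Hom.comp_apply (gb ≫ O.ι) pr _).symm.trans congr($hfst _)).trans (geomPt_apply p z _)
  obtain ⟨β, hβ⟩ := exists_fac _ w hwb
  obtain ⟨r, hr⟩ := exists_fac k w rfl
  let ψ : Z.left.residueField (pt p z) ⟶ W.residueField w :=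
    (Z.left.residueFieldCongr hw.symm).hom ≫ pr.residueFieldMap w
  have hψ : Spec.map ψ ≫ Z.left.fromSpecResidueField (pt p z) = W.fromSpecResidueField w ≫ pr := by
    simp [ψ]
  have hψr : ψ ≫ r = 𝟙 _ := by
    refine residue_ext ?_
    rw [Spec.map_comp, Category.assoc, hψ, ← Category.assoc, hr]
    exact (pullback.lift_fst _ _ _).trans
      ((congrArg (· ≫ Z.left.fromSpecResidueField (pt p z)) (Spec.map_id (Z.left.residueField (pt p z)))).trans
        (Category.id_comp _)).symm
  have hψβ : ψ ≫ β = stageF p z := by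
    refine residue_ext ?_
    rw [Spec.map_comp, Category.assoc, hψ, ← Category.assoc, hβ, hfst]
    rfl
  have hrinj : Function.Injective r.hom := RingHom.injective r.hom
  have hrψ : r ≫ ψ = 𝟙 _ := by
    ext c
    refine hrinj ?_
    exact congr($(hψr).hom (r.hom c))
  have : β = r ≫ stageF p z :=
    ((Category.id_comp β).symm.trans (congrArg (· ≫ β) hrψ.symm)).trans
      ((Category.assoc r ψ β).trans (congrArg (r ≫ ·) hψβ))
  exact hβ.symm.trans ((congrArg (fun q => Spec.map q ≫ W.fromSpecResidueField w) this).trans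
    ((congrArg (· ≫ W.fromSpecResidueField w) (Spec.map_comp r (stageF p z))).trans
      ((Category.assoc _ _ _).trans (congrArg (Spec.map (stageF p z) ≫ ·) hr))))

theorem isSepClosed : IsSepClosed (Fld p) := by
  refine IsSepClosed.of_exists_root _ fun P hmon hirr hsep => ?_
  obtain ⟨X, e, q, rfl⟩ : ∃ (X : S.Etale) (e : p.fiber.obj X) (q : Polynomial (X.left.residueField (pt p e))),
      q.map (stageF p e).hom = P := by
    clear hmon hirr hsep
    induction P using Polynomial.induction_on' with
    | add P Q hP hQ =>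
      obtain ⟨X, e, q, rfl⟩ := hP
      obtain ⟨Y, e', q', rfl⟩ := hQ
      obtain ⟨W, w, g, g', hg, hg'⟩ := exists_dominate₂ p e e'
      obtain ⟨m, hm, -⟩ := stage_map p (e := w) g hg
      obtain ⟨m', hm', -⟩ := stage_map p (e := w) g' hg'
      refine ⟨W, w, q.map m.hom + q'.map m'.hom, ?_⟩
      rw [Polynomial.map_add, Polynomial.map_map, Polynomial.map_map]
      exact congrArg₂ (· + ·) (congrArg (fun f => q.map (CommRingCat.Hom.hom f)) hm)
        (congrArg (fun f => q'.map (CommRingCat.Hom.hom f)) hm')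
    | monomial n c =>
      obtain ⟨X, e, v, hv⟩ := stage_surj p c
      exact ⟨X, e, Polynomial.monomial n v, by rw [Polynomial.map_monomial]; exact congrArg _ hv⟩
  have : Etale X.hom := X.prop
  let φ := (stageF p e).hom
  have hmq : q.Monic := Polynomial.monic_of_injective φ.injective hmon
  have hiq : Irreducible q := hmq.irreducible_of_irreducible_map φ q hirr
  have hsq : q.Separable := (Polynomial.separable_map φ).1 hsep
  -- lift the polynomial to an affine open
  obtain ⟨U, hU, hxU, Q, hQm, hQ⟩ : ∃ (U : X.left.Opens) (_ : IsAffineOpen U) (hxU : pt p e ∈ U)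
      (Q : Polynomial Γ(X.left, U)), Q.Monic ∧
        Q.map (X.left.presheaf.germ U (pt p e) hxU ≫ X.left.residue (pt p e)).hom = q := by
    classical
    have h1 : ∀ v : X.left.residueField (pt p e), ∃ (V : X.left.Opens) (hV : pt p e ∈ V) (c : Γ(X.left, V)),
        (X.left.presheaf.germ V (pt p e) hV ≫ X.left.residue (pt p e)).hom c = v := fun v => by
      obtain ⟨v', rfl⟩ := IsLocalRing.residue_surjective v
      obtain ⟨V, hV, c, rfl⟩ := X.left.presheaf.germ_exist v'
      exact ⟨V, hV, c, rfl⟩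
    choose V hV c hc using h1
    let W : X.left.Opens := (Finset.range (q.natDegree + 1)).inf fun i => V (q.coeff i)
    have hW : pt p e ∈ W := by
      rw [← SetLike.mem_coe, TopologicalSpace.Opens.coe_finset_inf, Finset.inf_set_eq_iInter]
      exact Set.mem_iInter₂.2 fun i _ => hV _
    obtain ⟨U, hU, hxU, hUW⟩ := exists_isAffineOpen_mem_and_subset hW
    let g := (X.left.presheaf.germ U (pt p e) hxU ≫ X.left.residue (pt p e)).hom
    have hlift : q ∈ Polynomial.lifts g := by
      refine (Polynomial.lifts_iff_coeff_lifts q).2 fun i => ?_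
      by_cases hi : i ∈ Finset.range (q.natDegree + 1)
      · have hle : U ≤ V (q.coeff i) := fun y hy =>
          (Finset.inf_le (f := fun i => V (q.coeff i)) hi) (hUW hy)
        refine ⟨X.left.presheaf.map (homOfLE hle).op (c (q.coeff i)), ?_⟩
        exact (congrArg (X.left.residue (pt p e)).hom
          (X.left.presheaf.germ_res_apply (homOfLE hle) (pt p e) hxU (c (q.coeff i)))).trans (hc _)
      · exact ⟨0, by rw [map_zero, Polynomial.coeff_eq_zero_of_natDegree_lt (by simpa [Nat.lt_succ_iff] using hi)]⟩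
    obtain ⟨Q, hQ, -, hQm⟩ := Polynomial.lifts_and_degree_eq_and_monic hlift hmq
    exact ⟨U, hU, hxU, Q, hQm, hQ⟩
  let R := Γ(X.left, U)
  let φx : R ⟶ X.left.residueField (pt p e) := X.left.presheaf.germ U (pt p e) hxU ≫ X.left.residue (pt p e)
  have hφx : Spec.map φx ≫ hU.fromSpec = X.left.fromSpecResidueField (pt p e) := by
    rw [Spec.map_comp, Category.assoc]
    change _ = Spec.map (X.left.residue (pt p e)) ≫ X.left.fromSpecStalk (pt p e)
    congr 1
    exact hU.fromSpecStalk_eq_fromSpecStalk hxU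
  let E : StandardEtalePair R := ⟨Q, hQm, Polynomial.derivative Q, 1, 0, 1, by simp⟩
  let j : Spec (CommRingCat.of E.Ring) ⟶ X.left :=
    Spec.map (CommRingCat.ofHom (algebraMap R E.Ring)) ≫ hU.fromSpec
  have hj : Etale j := by
    have : Etale (Spec.map (CommRingCat.ofHom (algebraMap R E.Ring))) := by
      rw [HasRingHomProperty.Spec_iff (P := @Etale)]
      exact RingHom.etale_algebraMap.2 inferInstance
    exact inferInstanceAs (Etale (_ ≫ _))
  -- the fibre over the point is not empty
  have hxj : pt p e ∈ Set.range j := by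
    haveI : Fact (Irreducible q) := ⟨hiq⟩
    let K' := AdjoinRoot q
    let c : X.left.residueField (pt p e) ⟶ CommRingCat.of K' := CommRingCat.ofHom (AdjoinRoot.of q)
    letI : Algebra R K' := (φx ≫ c).hom.toAlgebra
    have hroot : E.HasMap (AdjoinRoot.root q) := by
      have h1 : ∀ T : Polynomial R, Polynomial.aeval (AdjoinRoot.root q) T =
          Polynomial.eval₂ (AdjoinRoot.of q) (AdjoinRoot.root q) (T.map φx.hom) := fun T => by
        rw [Polynomial.eval₂_map]; rfl
      refine ⟨?_, ?_⟩
      · change Polynomial.aeval (AdjoinRoot.root q) Q = 0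
        rw [h1, hQ, AdjoinRoot.eval₂_root]
      · change IsUnit (Polynomial.aeval (AdjoinRoot.root q) (Polynomial.derivative Q))
        rw [h1, ← Polynomial.derivative_map, hQ]
        exact (hsq.eval₂_derivative_ne_zero _ (AdjoinRoot.eval₂_root q)).isUnit
    let h := CommRingCat.ofHom (E.lift _ hroot).toRingHom
    refine ⟨(Spec.map h) (closedPoint K'), ?_⟩
    have : Spec.map h ≫ j = Spec.map c ≫ X.left.fromSpecResidueField (pt p e) := by
      rw [← hφx, ← Category.assoc, ← Category.assoc, ← Spec.map_comp, ← Spec.map_comp]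
      congr 2
      ext r
      exact (E.lift _ hroot).commutes r
    exact ((Scheme.Hom.comp_apply (Spec.map h) j _).symm.trans congr($this _)).trans
      ((Scheme.Hom.comp_apply (Spec.map c) _ _).trans (Scheme.fromSpecResidueField_apply _ _))
  obtain ⟨b, hb'⟩ := exists_lift_of_mem_range p X e j hxj
  let π : mkE X j ⟶ X := proj X j
  have hπl : π.left = j := rfl
  obtain ⟨m, hm, hm2⟩ := stage_map p π hb'
  let Y := Spec (CommRingCat.of E.Ring)
  let wb : Y := pt p b
  let m' : X.left.residueField (pt p e) ⟶ Y.residueField wb := m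
  let ψ : CommRingCat.of E.Ring ⟶ Y.residueField wb := Spec.preimage (Y.fromSpecResidueField wb)
  have hψ : Spec.map ψ = Y.fromSpecResidueField wb := Spec.map_preimage _
  have hcomm : φx ≫ m' = CommRingCat.ofHom (algebraMap R E.Ring) ≫ ψ := by
    refine Spec.map_injective ?_
    refine (cancel_mono hU.fromSpec).1 ?_
    calc Spec.map (φx ≫ m') ≫ hU.fromSpec = (Spec.map m' ≫ Spec.map φx) ≫ hU.fromSpec :=
          congrArg (· ≫ hU.fromSpec) (Spec.map_comp φx m')
      _ = Spec.map m' ≫ X.left.fromSpecResidueField (pt p e) :=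
          (Category.assoc _ _ _).trans (congrArg (Spec.map m' ≫ ·) hφx)
      _ = Y.fromSpecResidueField wb ≫ j := hm2.trans (congrArg _ hπl)
      _ = (Spec.map ψ ≫ Spec.map (CommRingCat.ofHom (algebraMap R E.Ring))) ≫ hU.fromSpec := by
          rw [hψ, Category.assoc]
      _ = _ := congrArg (· ≫ hU.fromSpec) (Spec.map_comp _ ψ).symm
  let α := ψ.hom E.X
  have hα : (q.map m'.hom).eval α = 0 := by
    rw [← hQ, Polynomial.map_map, Polynomial.eval_map]
    have : m'.hom.comp φx.hom = ψ.hom.comp (algebraMap R E.Ring) := congrArg CommRingCat.Hom.hom hcomm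
    change Polynomial.eval₂ (m'.hom.comp φx.hom) (ψ.hom E.X) Q = 0
    rw [this, ← Polynomial.hom_eval₂, show Polynomial.eval₂ (algebraMap R E.Ring) E.X Q = 0 from E.hasMap_X.1,
      map_zero]
  refine ⟨(stageF p b).hom α, ?_⟩
  have hm' : (stageF p b).hom.comp m'.hom = φ := congrArg CommRingCat.Hom.hom hm
  change (q.map φ).eval _ = 0
  rw [← hm', Polynomial.eval_map]
  refine (Polynomial.hom_eval₂ q m'.hom (stageF p b).hom α).symm.trans ?_
  rw [← Polynomial.eval_map]
  exact (congrArg _ hα).trans (stageF p b).hom.map_zero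

end

end Groth.Agent.H12.EtPoint
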